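import Cfsg.Agent.H769.PB.Real_m3
import Cfsg.Agent.H843.IMC.Co3A
import Cfsg.Agent.H314.LyOrb.Deg
import Cfsg.Agent.H678.PV.CoSym
import Cfsg.Agent.S1640
import Cfsg.Agent.S1641
import Cfsg.Agent.Prune
set_option linter.all false
prune_inst 0x7f00000000000000000000000000000000000000000000000000000000000000000000000000000000000000000000000000000000000000000000000000000000000000000000000000000000000000003fffffffffffffffffffffffffffbeffbdffffffff
open scoped Cfsg.Agent.FastGrp

/-!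
# `Co3`: real characters of degrees `2024` and `8855` (helper769)

The permutation character on the 11178 vectors of type 2 with inner product `-16` with the fixed vector (rank 5,
subdegrees 1, 352, 1100, 4125, 5600) is `1 + 23 + 275 + 2024 + 8855` (Frame).
-/

set_option autoImplicit false

namespace Cfsg.Agent.H769.PB.CoThreeRank5

open Cfsg MulAction Cfsg.Agent.H33 Cfsg.Agent.H672.SporIM Cfsg.Agent.Characters.Core
open Cfsg.Agent.H419.Spor.Co3 (inc inc_injective inc_fix)
open Cfsg.Agent.SporadicStructure.Co0Base (co0_dotInt)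
open Cfsg.Agent.H593.IMFrame (Sub perm frame)
open Cfsg.Agent.H713.Spor.RankThree (pc inner_pc_one inner_ne)

open scoped ComplexConjugate

local notation "V" => Spor.leechV

theorem sq_smul (g : Co0) (x : leechLattice) : sqNorm ((g • x : leechLattice) : GolayPt → ℤ) = sqNorm (x : GolayPt → ℤ) :=
  g.2.2 x

/-- The 11178 vectors. -/
abbrev X : Type := {x : leechLattice // x ∈ {x : leechLattice | sqNorm (x : GolayPt → ℤ) = 32 ∧
  dotInt ((V : leechLattice) : GolayPt → ℤ) (x : GolayPt → ℤ) = -16}}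

theorem inner_smul (g : Spor.Co3) (x : leechLattice) :
    dotInt ((V : leechLattice) : GolayPt → ℤ) ((inc g • x : leechLattice) : GolayPt → ℤ) =
      dotInt ((V : leechLattice) : GolayPt → ℤ) (x : GolayPt → ℤ) := by
  have h := co0_dotInt (inc g) V x
  rwa [inc_fix] at h

instance actX : MulAction Spor.Co3 X where
  smul g x := ⟨inc g • x.1, (sq_smul _ _).trans x.2.1, (inner_smul _ _).trans x.2.2⟩
  one_smul x := Subtype.ext (by
    show inc 1 • x.1 = x.1
    rw [map_one, one_smul])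
  mul_smul g h x := Subtype.ext (by
    show inc (g * h) • x.1 = inc g • inc h • x.1
    rw [map_mul, mul_smul])

/-- Elements of `Co3`. -/
def lift (g : Co0) (h : g • V = V) : Spor.Co3 := ⟨g.1, g.2, h⟩

theorem normV : sqNorm ((V : leechLattice) : GolayPt → ℤ) = 48 := Cfsg.Agent.H707.RowCo3.normV

theorem card_X : Nat.card X = 11178 := (Cfsg.Agent.S1640.result V normV).1

instance finX : Finite X := Nat.finite_of_card_ne_zero (by rw [card_X]; norm_num)

instance transX : IsPretransitive Spor.Co3 X where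
  exists_smul_eq x y := by
    obtain ⟨g, h1, h2⟩ := (Cfsg.Agent.S1640.result V normV).2 x.1 x.2 y.1 y.2
    exact ⟨lift g h1, Subtype.ext h2⟩

theorem orbit_ncard (x y : X) : (orbit (stabilizer Spor.Co3 x) y).ncard =
    (orbit ↥(stabilizer Co0 (V : leechLattice) ⊓ stabilizer Co0 (x.1 : leechLattice)) y.1).ncard := by
  rw [← Set.ncard_image_of_injective _ Subtype.val_injective]
  congr 1
  ext z
  constructor
  · rintro ⟨_, ⟨⟨g, hg⟩, rfl⟩, rfl⟩
    refine ⟨⟨inc g, ?_⟩, rfl⟩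
    refine Subgroup.mem_inf.2 ⟨?_, ?_⟩
    · rw [mem_stabilizer_iff]; exact inc_fix g
    · rw [mem_stabilizer_iff] at hg ⊢
      exact congrArg Subtype.val hg
  · rintro ⟨⟨g, hg⟩, rfl⟩
    obtain ⟨h1, h2⟩ := Subgroup.mem_inf.1 hg
    rw [mem_stabilizer_iff] at h1 h2
    refine ⟨lift g h1 • y, ⟨⟨lift g h1, ?_⟩, rfl⟩, rfl⟩
    rw [mem_stabilizer_iff]
    exact Subtype.ext h2

theorem exists_sub : ∃ (x : X) (b : Fin 5 → X), _root_.Cfsg.Agent.H593.IMFrame.Sub Spor.Co3 X x b ![1, 352, 1100, 4125, 5600] := by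
  have hne : Nonempty X := (Nat.card_pos_iff.1 (by rw [card_X]; norm_num)).1
  obtain ⟨x⟩ := hne
  obtain ⟨y₁, h1, y₂, h2, y₃, h3, y₄, h4, c1, c2, c3, c4, -⟩ := Cfsg.Agent.S1641.result V x.1 normV x.2
  refine ⟨x, ![x, ⟨y₁, h1⟩, ⟨y₂, h2⟩, ⟨y₃, h3⟩, ⟨y₄, h4⟩], transX, ?_, ?_, ?_⟩
  · intro i
    fin_cases i
    · have h : orbit (stabilizer Spor.Co3 x) x = {x} := by
        ext z
        rw [Set.mem_singleton_iff]
        constructor
        · rintro ⟨⟨g, hg⟩, rfl⟩
          exact hg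
        · rintro rfl
          exact mem_orbit_self z
      show (orbit (stabilizer Spor.Co3 x) x).ncard = 1
      rw [h, Set.ncard_singleton]
    · show (orbit (stabilizer Spor.Co3 x) (⟨y₁, h1⟩ : X)).ncard = 352
      rw [orbit_ncard]; exact c1
    · show (orbit (stabilizer Spor.Co3 x) (⟨y₂, h2⟩ : X)).ncard = 1100
      rw [orbit_ncard]; exact c2
    · show (orbit (stabilizer Spor.Co3 x) (⟨y₃, h3⟩ : X)).ncard = 4125
      rw [orbit_ncard]; exact c3
    · show (orbit (stabilizer Spor.Co3 x) (⟨y₄, h4⟩ : X)).ncard = 5600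
      rw [orbit_ncard]; exact c4
  · decide
  · rw [card_X]
    decide

/-! ### arithmetic -/

/-- `11178 ^ 5 * 1 * 352 * 1100 * 4125 * 5600` -/
def N : ℕ := 11178 * 1 * (11178 * 352) * (11178 * 1100) * (11178 * 4125) * (11178 * 5600)

/-- The check for the degrees. -/
def chk (a : ℕ) : Bool :=
  Nat.blt 10879 a || (!Nat.beq (495766656000 % (10879 - a)) 0 ||
    (!Nat.beq (N % (6325 * (a * (10879 - a)))) 0 ||
      (notSq (N / (6325 * (a * (10879 - a)))) (root (N / (6325 * (a * (10879 - a)))) 64 0 100000000000000000) ||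
        (Nat.beq a 2024 || Nat.beq a 8855))))

/-- The factorization of the order. -/
def fac : List (ℕ × ℕ) := [(2, 10), (3, 7), (5, 3), (7, 1), (11, 1), (23, 1)]

theorem chk_all : (divList fac).all chk = true := by decide +kernel

theorem mem_fac {d : ℕ} (h : d ∣ 495766656000) : d ∈ divList fac := by
  refine mem_divList ?_ (by
    have : (fac.map fun x => x.1 ^ x.2).prod = 495766656000 := by norm_num [fac]
    rwa [this])
  intro x hx
  fin_cases hx <;> norm_num

theorem split5 : ∀ i j k : Fin 5, i ≠ j → i ≠ k → j ≠ k → ∃ c d : Fin 5, c ≠ d ∧ c ≠ i ∧ c ≠ j ∧ c ≠ k ∧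
    d ≠ i ∧ d ≠ j ∧ d ≠ k ∧ (Finset.univ : Finset (Fin 5)) = {i, j, k, c, d} := by decide +kernel

theorem dioph (f : Fin 5 → ℕ) (D : ℕ) (hdiv : ∀ i, f i ∣ 495766656000) {i j k : Fin 5}
    (hi : f i = 1) (hj : f j = 23) (hk : f k = 275) (hsum : ∑ i, f i = 11178)
    (hprod : (∏ i, f i) * D = N) (hsq : Function.Injective f → IsSquare D) :
    ∃ c d : Fin 5, f c = 2024 ∧ f d = 8855 ∧ c ≠ d ∧ ∀ x, x = i ∨ x = j ∨ x = k ∨ x = c ∨ x = d := by
  have hij : i ≠ j := fun h => by rw [h, hj] at hi; omega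
  have hik : i ≠ k := fun h => by rw [h, hk] at hi; omega
  have hjk : j ≠ k := fun h => by rw [h, hk] at hj; omega
  obtain ⟨c, d, hcd, hci, hcj, hck, hdi, hdj, hdk, huniv⟩ := split5 i j k hij hik hjk
  have hs : f i + (f j + (f k + (f c + f d))) = 11178 := by
    rw [← hsum, huniv, Finset.sum_insert (by simp [hij, hik, hci.symm, hdi.symm]),
      Finset.sum_insert (by simp [hjk, hcj.symm, hdj.symm]), Finset.sum_insert (by simp [hck.symm, hdk.symm]),
      Finset.sum_insert (by simp [hcd]), Finset.sum_singleton]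
  have hp : f i * (f j * (f k * (f c * f d))) * D = N := by
    rw [← hprod, huniv, Finset.prod_insert (by simp [hij, hik, hci.symm, hdi.symm]),
      Finset.prod_insert (by simp [hjk, hcj.symm, hdj.symm]), Finset.prod_insert (by simp [hck.symm, hdk.symm]),
      Finset.prod_insert (by simp [hcd]), Finset.prod_singleton]
  rw [hi, hj, hk] at hp hs
  have hall : ∀ x : Fin 5, x = i ∨ x = j ∨ x = k ∨ x = c ∨ x = d := by
    intro x
    have : x ∈ (Finset.univ : Finset (Fin 5)) := Finset.mem_univ x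
    rw [huniv] at this
    simpa using this
  have hsum2 : f c + f d = 10879 := by omega
  have hnd : ∀ a b : ℕ, a + b = 10879 → b ∣ 495766656000 → a ≠ 1 ∧ a ≠ 23 ∧ a ≠ 275 := by
    intro a b hab hb
    refine ⟨?_, ?_, ?_⟩ <;> intro h <;> rw [h] at hab
    · have : b = 10878 := by omega
      rw [this] at hb; norm_num at hb
    · have : b = 10856 := by omega
      rw [this] at hb; norm_num at hb
    · have : b = 10604 := by omega
      rw [this] at hb; norm_num at hb
  obtain ⟨n1, n2, n3⟩ := hnd (f c) (f d) hsum2 (hdiv d)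
  obtain ⟨m1, m2, m3⟩ := hnd (f d) (f c) (by omega) (hdiv c)
  have hinj : Function.Injective f := by
    intro x y hxy
    rcases hall x with rfl | rfl | rfl | rfl | rfl <;> rcases hall y with rfl | rfl | rfl | rfl | rfl <;>
      first
        | rfl
        | (exfalso; (clear * - hxy hi hj hk n1 n2 n3 hci m1 m2 m3 hdi hcj hdj hck hdk hs; omega))
  obtain ⟨e, he⟩ := hsq hinj
  have hp' : 6325 * (f c * f d) * (e * e) = N := by
    rw [← hp, he]
    ring
  have hNpos : N ≠ 0 := by decide +kernel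
  have hpos : 0 < 6325 * (f c * f d) := by
    apply Nat.pos_of_ne_zero
    intro h0
    rw [h0, zero_mul] at hp'
    exact hNpos hp'.symm
  have h1 := List.all_eq_true.1 chk_all (f c) (mem_fac (hdiv c))
  have hsd : 10879 - f c = f d := by omega
  unfold chk at h1
  rw [hsd] at h1
  rw [Bool.or_eq_true] at h1
  rcases h1 with h1 | h1
  · rw [Nat.blt_eq] at h1
    omega
  rw [Bool.or_eq_true] at h1
  rcases h1 with h1 | h1
  · exact absurd (hdiv d) (mod_ne h1)
  rw [Bool.or_eq_true] at h1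
  rcases h1 with h1 | h1
  · exact absurd (Dvd.intro _ hp') (mod_ne h1)
  rw [Bool.or_eq_true] at h1
  rcases h1 with h1 | h1
  · have h2 : N / (6325 * (f c * f d)) = e * e := by
      rw [← hp', Nat.mul_div_cancel_left _ hpos]
    rw [h2] at h1
    exact absurd rfl (notSq_spec h1 e)
  rw [Bool.or_eq_true] at h1
  rcases h1 with h1 | h1
  · have h3 : f c = 2024 := Nat.eq_of_beq_eq_true h1
    exact ⟨c, d, h3, by omega, hcd, hall⟩
  · have h3 : f c = 8855 := Nat.eq_of_beq_eq_true h1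
    refine ⟨d, c, by omega, h3, hcd.symm, fun x => ?_⟩
    rcases hall x with h | h | h | h | h
    · exact Or.inl h
    · exact Or.inr (Or.inl h)
    · exact Or.inr (Or.inr (Or.inl h))
    · exact Or.inr (Or.inr (Or.inr (Or.inr h)))
    · exact Or.inr (Or.inr (Or.inr (Or.inl h)))

/-- The character of degree 275 is the 2-transitive one. -/
theorem exists_275 : ∃ θ : IrrCharacter Spor.Co3,
    (∀ g, (θ : Spor.Co3 → ℂ) g = (Nat.card (fixedBy Cfsg.Agent.H843.IMC.Co3A.Y g) : ℂ) - 1) ∧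
    charDegree (θ : Spor.Co3 → ℂ) = 275 ∧ ∀ g, ((θ : Spor.Co3 → ℂ) g).im = 0 := by
  obtain ⟨θ, hθ⟩ := Cfsg.Agent.H419.TwoTrans.exists_irr Cfsg.Agent.H843.IMC.Co3A.Y Cfsg.Agent.H843.IMC.Co3A.two_trans
    (by rw [Cfsg.Agent.H843.IMC.Co3A.card_Y]; norm_num)
  refine ⟨θ, hθ, Cfsg.Agent.H670.PSing.charDegree_eq_of ?_, fun g => ?_⟩
  · rw [hθ, fixedBy_one_eq_univ, Nat.card_coe_set_eq, Set.ncard_univ, Cfsg.Agent.H843.IMC.Co3A.card_Y]
    norm_num
  · rw [hθ, Complex.sub_im, Complex.natCast_im, Complex.one_im, sub_zero]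

/-- **`Co3` has real irreducible characters of degrees `2024` and `8855`.** -/
theorem exists_chars : (∃ χ : IrrCharacter Spor.Co3, charDegree (χ : Spor.Co3 → ℂ) = 2024 ∧
      ∀ g, ((χ : Spor.Co3 → ℂ) g).im = 0) ∧
    ∃ χ : IrrCharacter Spor.Co3, charDegree (χ : Spor.Co3 → ℂ) = 8855 ∧ ∀ g, ((χ : Spor.Co3 → ℂ) g).im = 0 := by
  classical
  have := Fintype.ofFinite Spor.Co3
  have := Fintype.ofFinite X
  obtain ⟨x, b, hb⟩ := exists_sub
  have hne : Nonempty X := ⟨x⟩
  obtain ⟨χ, D, hinj, hperm, hsum, hprod, hsq⟩ := frame hb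
  have hperm' : perm Spor.Co3 X = ∑ i, (χ i : Spor.Co3 → ℂ) := by
    funext g
    rw [hperm, Finset.sum_apply]
  have hcon : ∀ η : Spor.Co3 → ℂ, IsIrrCharacter Spor.Co3 η → classInner (perm Spor.Co3 X) η ≠ 0 →
      ∃ i, (χ i : Spor.Co3 → ℂ) = η := by
    intro η hη h0
    by_contra hcon
    push Not at hcon
    apply h0
    rw [hperm', classInner_sum_left, Finset.sum_eq_zero]
    intro i _
    exact classInner_irr_ne (χ i).2 hη (hcon i)
  have hone : classInner (perm Spor.Co3 X) (1 : Spor.Co3 → ℂ) = 1 := inner_pc_one (G := Spor.Co3) X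
  obtain ⟨i, hi⟩ := hcon 1 isIrr_one (by rw [hone]; norm_num)
  have hone' : charDegree (1 : Spor.Co3 → ℂ) = 1 := by
    unfold charDegree
    simp
  have hi1 : charDegree (χ i : Spor.Co3 → ℂ) = 1 := by rw [hi, hone']
  -- the degree 23
  obtain ⟨μ, hμ⟩ := Cfsg.Agent.H843.IMC.Co3A.exists_mu
  have hμ23 : charDegree (μ : Spor.Co3 → ℂ) = 23 := by
    have h4 := hμ 1
    have h6 : Cfsg.Agent.H419.LeechIrr.lchi inc 1 = 24 := by
      rw [Cfsg.Agent.H419.LeechIrr.lchi, map_one, Cfsg.Agent.SigZeroCo2.Lin.tr8_one]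
      norm_num
    rw [h6, Cfsg.Agent.Blocks.Basic.irr_one_eq_charDegree μ.2] at h4
    have : (24 : ℂ) = ((1 + charDegree (μ : Spor.Co3 → ℂ) : ℕ) : ℂ) := by rw [h4]; push_cast; ring
    have h9 : 24 = 1 + charDegree (μ : Spor.Co3 → ℂ) := by exact_mod_cast this
    omega
  have hμ1 : (μ : Spor.Co3 → ℂ) ≠ 1 := by
    intro h
    rw [h, hone'] at hμ23
    omega
  have hXμ : classInner (perm Spor.Co3 X) (μ : Spor.Co3 → ℂ) ≠ 0 := by
    refine inner_ne inc μ hμ1 (d := 1) (fun g => by rw [hμ g]; norm_num) X (fun x => x.1) (fun _ _ => rfl) ?_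
    intro z
    have h1 : 1 < Nat.card X := by rw [card_X]; norm_num
    have hnt : Nontrivial X := Finite.one_lt_card_iff_nontrivial.1 h1
    obtain ⟨w, hw⟩ := exists_ne z
    obtain ⟨g, hg⟩ := exists_smul_eq Spor.Co3 z w
    refine ⟨g, fun hcon => hw ?_⟩
    rw [← hg]
    exact Subtype.ext hcon
  obtain ⟨j, hj⟩ := hcon μ μ.2 hXμ
  have hj1 : charDegree (χ j : Spor.Co3 → ℂ) = 23 := by rw [hj, hμ23]
  -- the degree 275
  obtain ⟨θ, hθ, hθd, -⟩ := exists_275
  have hXθ : classInner (perm Spor.Co3 X) (θ : Spor.Co3 → ℂ) ≠ 0 := by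
    intro h0
    have h1 : (θ : Spor.Co3 → ℂ) + 1 = pc Spor.Co3 Cfsg.Agent.H843.IMC.Co3A.Y := by
      funext g
      rw [Pi.add_apply, hθ, Pi.one_apply, sub_add_cancel]
      rfl
    have h2 : classInner (perm Spor.Co3 X) (pc Spor.Co3 Cfsg.Agent.H843.IMC.Co3A.Y) = 1 := by
      rw [← h1, classInner_add_right, h0, hone, zero_add]
    have h3 : classInner (perm Spor.Co3 X) (pc Spor.Co3 Cfsg.Agent.H843.IMC.Co3A.Y) =
        (Nat.card (Quotient (orbitRel Spor.Co3 (X × Cfsg.Agent.H843.IMC.Co3A.Y))) : ℂ) := by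
      have h4 := classInner_def (pc Spor.Co3 X) (pc Spor.Co3 Cfsg.Agent.H843.IMC.Co3A.Y)
      change classInner (perm Spor.Co3 X) (pc Spor.Co3 Cfsg.Agent.H843.IMC.Co3A.Y) = _ at h4
      rw [h4, ← Cfsg.Agent.S0157.avg_fixedBy (G := Spor.Co3) (X × Cfsg.Agent.H843.IMC.Co3A.Y)]
      congr 1
      refine Finset.sum_congr rfl fun g _ => ?_
      rw [Cfsg.Agent.S0157.card_fixedBy_prod, pc, pc, Complex.conj_natCast]
      push_cast
      rfl
    rw [h2] at h3
    have h5 : Nat.card (Quotient (orbitRel Spor.Co3 (X × Cfsg.Agent.H843.IMC.Co3A.Y))) = 1 := by exact_mod_cast h3.symm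
    have h6 : Subsingleton (Quotient (orbitRel Spor.Co3 (X × Cfsg.Agent.H843.IMC.Co3A.Y))) :=
      (Nat.card_eq_one_iff_unique.1 h5).1
    have h7 : IsPretransitive Spor.Co3 (X × Cfsg.Agent.H843.IMC.Co3A.Y) :=
      (pretransitive_iff_subsingleton_quotient Spor.Co3 _).2 h6
    have hY : Nonempty Cfsg.Agent.H843.IMC.Co3A.Y := by
      refine (Nat.card_pos_iff.1 ?_).1
      rw [Cfsg.Agent.H843.IMC.Co3A.card_Y]
      norm_num
    obtain ⟨y⟩ := hY
    have h8 := (stabilizer Spor.Co3 (x, y)).card_mul_index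
    rw [index_stabilizer_of_transitive, Nat.card_prod, card_X, Cfsg.Agent.H843.IMC.Co3A.card_Y,
      Cfsg.Agent.H843.IMC.Co3A.card_co3] at h8
    omega
  obtain ⟨k, hk⟩ := hcon θ θ.2 hXθ
  have hk1 : charDegree (χ k : Spor.Co3 → ℂ) = 275 := by rw [hk, hθd]
  obtain ⟨c, d, hc, hd, hcd, hall⟩ := dioph (fun i => charDegree (χ i : Spor.Co3 → ℂ)) D
    (fun i => by
      rw [← Cfsg.Agent.H843.IMC.Co3A.card_co3]
      exact Cfsg.Agent.Blocks.Knorr.charDegree_dvd (χ i).2) hi1 hj1 hk1 (by rw [hsum, card_X]) (by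
      rw [hprod, card_X]
      decide +kernel) hsq
  have hreal : ∀ g, conj (perm Spor.Co3 X g) = perm Spor.Co3 X g := fun g => Complex.conj_natCast _
  -- different degrees
  have hdeg : ∀ u v : Fin 5, charDegree (χ u : Spor.Co3 → ℂ) = charDegree (χ v : Spor.Co3 → ℂ) → u = v := by
    intro u v huv
    change charDegree (χ c : Spor.Co3 → ℂ) = 2024 at hc
    change charDegree (χ d : Spor.Co3 → ℂ) = 8855 at hd
    rcases hall u with rfl | rfl | rfl | rfl | rfl <;> rcases hall v with rfl | rfl | rfl | rfl | rfl <;>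
      first
        | rfl
        | (exfalso; (clear * - huv hi1 hj1 hk1 hc hd; omega))
  have hinner : ∀ (u : Fin 5) (ψ : IrrCharacter Spor.Co3), classInner (perm Spor.Co3 X) (ψ : Spor.Co3 → ℂ) ≠ 0 →
      charDegree (ψ : Spor.Co3 → ℂ) = charDegree (χ u : Spor.Co3 → ℂ) → ψ = χ u := by
    intro u ψ h0 hd'
    obtain ⟨v, hv⟩ := hcon ψ ψ.2 h0
    have h1 : u = v := hdeg u v (by rw [← hd', ← hv])
    rw [h1]
    exact Subtype.ext hv.symm
  have hself : ∀ u : Fin 5, classInner (perm Spor.Co3 X) (χ u : Spor.Co3 → ℂ) ≠ 0 := by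
    intro u
    rw [hperm', classInner_sum_left, Finset.sum_eq_single u]
    · rw [classInner_irr_self (χ u).2]
      norm_num
    · intro v _ hv
      exact classInner_irr_ne (χ v).2 (χ u).2 (fun h => hv (hinj (Subtype.ext h)))
    · intro h
      exact absurd (Finset.mem_univ _) h
  exact ⟨⟨χ c, hc, real_of_unique hreal (hself c) (hinner c)⟩, ⟨χ d, hd, real_of_unique hreal (hself d) (hinner d)⟩⟩

end Cfsg.Agent.H769.PB.CoThreeRank5

private theorem dce_33a73d3687bf : _root_.True := by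
  try have : _root_.True := by simp only [_root_.Cfsg.Agent.H769.PB.CoThreeRank5.fac.eq_1]
  exact _root_.True.intro
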