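import Cfsg.Agent.H769.PB.Real_m3
import Cfsg.Agent.H771.KSp6
import Cfsg.Agent.KFacts.Co3D4.Model
import Cfsg.Agent.Prune
set_option linter.all false
prune_inst 0x7f00000000000000000000000000000000000000000000000000000000000000000000000000000000000000000000000000000000000000000000000000000000000000000000000000000000000000003fffffffffffffffffffffffffffbeffbdffffffff
open scoped Cfsg.Agent.FastGrp

/-!
# `Co3`: the elements of order 7 are real (helper769, for S4826)

In `Sp₆(2)` the product of the two halves of a Coxeter element of type `A₆` has order 7 and is inverted by each half; it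
lifts to a real element of order 7 of the involution centralizer `2.Sp₆(2)` of `Co₃`.
-/

set_option autoImplicit false

namespace Cfsg.Agent.H769.PB.CoThreeTwo

open Cfsg Cfsg.Agent.H133.PB Cfsg.Agent.H771.KSp6 Cfsg.Agent.SporRec.TwoSp6.Sp

universe u

/-- A real element of prime order `q`, `q² ∤ |G|`. -/
theorem BD.of_real_prime {G : Type u} [Group G] [Finite G] {q : ℕ} [hq : Fact q.Prime] (hq2 : q ≠ 2)
    (hG : ¬ q ^ 2 ∣ Nat.card G) {g : G} (hg : orderOf g = q) (hr : IsConj g g⁻¹) : BD 2 q G := by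
  refine BD.of_real_nilpotent hq2 ⟨1, by rw [hg, pow_one]⟩ ?_ hr ?_
  · intro h
    rw [h, orderOf_one] at hg
    exact hq.out.one_lt.ne hg
  · refine index_pPrimeCore_of_central
      (⟨g, Subgroup.mem_centralizer_singleton_iff.2 rfl⟩ : Subgroup.centralizer ({g} : Set G)) ?_ ?_ ?_
    · rw [Subgroup.orderOf_mk]; exact hg
    · intro x
      exact Subtype.ext (Subgroup.mem_centralizer_singleton_iff.1 x.2)
    · intro h
      exact hG (h.trans (Subgroup.card_subgroup_dvd_card _))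

theorem ev_pow {w : List (Fin 7)} {n : ℕ}
    (h : ((List.range 64).all fun c => Nat.beq ((run w)^[n] c) c) = true) : ev w ^ n = 1 := by
  rw [List.all_eq_true] at h
  apply act_ext
  intro x
  obtain ⟨c, hc, rfl⟩ := exists_enc x
  rw [act_pow, act_one, Nat.eq_of_beq_eq_true (h c (List.mem_range.2 hc))]

theorem ev_append (v w : List (Fin 7)) : ev (v ++ w) = ev v * ev w := by
  unfold ev
  rw [List.map_append, List.prod_append]

theorem a_sq : ev [0, 3, 5] ^ 2 = 1 := ev_pow (by decide +kernel)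

theorem b_sq : ev [2, 4, 6] ^ 2 = 1 := ev_pow (by decide +kernel)

theorem c_pow : ev [0, 3, 5, 2, 4, 6] ^ 7 = 1 := ev_pow (by decide +kernel)

theorem c_ne : ev [0, 3, 5, 2, 4, 6] ≠ 1 := by
  intro h
  have h1 := act_ev [0, 3, 5, 2, 4, 6] 1
  rw [h, act_one] at h1
  have h2 := enc_inj _ (by norm_num) _ (by decide +kernel) h1
  exact absurd h2 (by decide +kernel)

/-- Real elements of order 7 in a double cover. -/
theorem exists_seven {C : Type*} [Group C] {z : C} {π : C →* S} (E : SporRec.TwoSp6.Lift.Ext z π) :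
    ∃ y g : C, orderOf y = 7 ∧ g * y * g⁻¹ = y⁻¹ := by
  have : Fact (Nat.Prime 7) := ⟨by norm_num⟩
  obtain ⟨x, hx⟩ := E.surj (ev [0, 3, 5, 2, 4, 6])
  obtain ⟨g, hg⟩ := E.surj (ev [0, 3, 5])
  have hz2 : z ^ 2 = 1 := by rw [sq, E.z_sq]
  have hx7 : (x ^ 7) ^ 2 = 1 := by
    rcases E.ker (x ^ 7) (by rw [map_pow, hx, c_pow]) with h | h
    · rw [h, one_pow]
    · rw [h, hz2]
  have hy7 : (x ^ 8) ^ 7 = 1 := by
    rw [← pow_mul, show 8 * 7 = 7 * (2 * 4) by norm_num, pow_mul, pow_mul, hx7, one_pow]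
  have hπy : π (x ^ 8) = ev [0, 3, 5, 2, 4, 6] := by
    rw [map_pow, hx, pow_succ, c_pow, one_mul]
  refine ⟨x ^ 8, g, orderOf_eq_prime hy7 ?_, ?_⟩
  · intro h
    rw [h, map_one] at hπy
    exact c_ne hπy.symm
  · have hab : ev [0, 3, 5, 2, 4, 6] = ev [0, 3, 5] * ev [2, 4, 6] := ev_append [0, 3, 5] [2, 4, 6]
    have ha : ev [0, 3, 5] * ev [0, 3, 5] = 1 := by rw [← sq, a_sq]
    have hb : ev [2, 4, 6] * ev [2, 4, 6] = 1 := by rw [← sq, b_sq]
    have hker : π (g * x ^ 8 * g⁻¹ * x ^ 8) = 1 := by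
      rw [map_mul, map_mul, map_mul, map_inv, hπy, hg, hab, inv_eq_of_mul_eq_one_right ha]
      calc ev [0, 3, 5] * (ev [0, 3, 5] * ev [2, 4, 6]) * ev [0, 3, 5] * (ev [0, 3, 5] * ev [2, 4, 6])
          = (ev [0, 3, 5] * ev [0, 3, 5]) * (ev [2, 4, 6] * (ev [0, 3, 5] * ev [0, 3, 5]) * ev [2, 4, 6]) := by
            simp only [mul_assoc]
        _ = 1 := by rw [ha, mul_one, one_mul, hb]
    rcases E.ker _ hker with h | h
    · exact eq_inv_of_mul_eq_one_left h
    · exfalso
      -- `g y g⁻¹ = z y⁻¹` has order 14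
      have h1 : g * x ^ 8 * g⁻¹ = z * (x ^ 8)⁻¹ := by rw [← h, mul_inv_cancel_right]
      have h2 : (g * x ^ 8 * g⁻¹) ^ 7 = 1 := by
        rw [conj_pow, hy7, mul_one, mul_inv_cancel]
      have hcz : Commute z (x ^ 8)⁻¹ := E.z_comm _
      rw [h1, hcz.mul_pow, inv_pow, hy7, inv_one, mul_one] at h2
      have h3 : z ^ 7 = z := by
        rw [show 7 = 2 * 3 + 1 by norm_num, pow_succ, pow_mul, hz2, one_pow, one_mul]
      rw [h3] at h2
      exact E.z_ne h2

/-- **The prime 2 for `Co3`.** -/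
theorem bd_two : BD 2 7 Spor.Co3 := by
  have : Fact (Nat.Prime 7) := ⟨by norm_num⟩
  refine BD.of_equiv SporRec.Co3.Model.equivCo3.symm ?_
  have hcard : Nat.card SporRec.Co3.Chain.G3 = 495766656000 := SporRec.Co3.Chain.isCo3_G3.2
  have hfG : Finite SporRec.Co3.Chain.G3 := Nat.finite_of_card_ne_zero (by rw [hcard]; norm_num)
  obtain ⟨π, N⟩ := KFacts.Co3D4.exists_NS_G3
  obtain ⟨y, g, hy, hyg⟩ := exists_seven N.toExt
  refine BD.of_real_prime (q := 7) (by norm_num) (by rw [hcard]; norm_num) (g := (y : SporRec.Co3.Chain.G3)) ?_ ?_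
  · rw [Subgroup.orderOf_coe]; exact hy
  · exact isConj_iff.2 ⟨g, congrArg Subtype.val hyg⟩

end Cfsg.Agent.H769.PB.CoThreeTwo
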